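import Groth.Agent.Etbc.H550.QuotColim
import Mathlib.CategoryTheory.Abelian.GrothendieckCategory.Basic
import Mathlib.Order.Zorn

/-!
# Maximal quotients with a property stable under directed colimits of quotients

`exists_max_quotient`: Zorn's lemma for quotients of an object `F` of a (well-powered, cocomplete) abelian category.
-/

set_option autoImplicit false

open CategoryTheory CategoryTheory.Limits

namespace Groth.Agent.Etbc.H550.ZornQuot

open QuotColim

universe w v u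

variable {C : Type u} [Category.{v} C] [Abelian C] [LocallySmall.{w} C] [WellPowered.{w} C]
  [HasCoproducts.{w} C]

theorem exists_ub {F : C} (S : Set (Subobject F))
    (hS : ∀ (J : Type w) [Preorder J] [IsDirectedOrder J] [Nonempty J] (g : J → Subobject F) (_ : Monotone g),
      (∀ j, g j ∈ S) → ∀ N : Subobject F, N ∈ upperBounds (Set.range g) →
        N ∈ lowerBounds (upperBounds (Set.range g)) → N ∈ S)
    (c : Set (Subobject F)) (hcS : c ⊆ S) (hc : IsChain (· ≤ ·) c) (y : Subobject F) (hy : y ∈ c) :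
    ∃ ub ∈ S, ∀ z ∈ c, z ≤ ub := by
  let _ : Preorder (Shrink.{w} c) := Preorder.lift (fun j => ((equivShrink c).symm j).1)
  let g : Shrink.{w} c → Subobject F := fun j => ((equivShrink c).symm j).1
  have hg : Monotone g := fun _ _ hij => hij
  have : Nonempty (Shrink.{w} c) := ⟨equivShrink c ⟨y, hy⟩⟩
  have : IsDirectedOrder (Shrink.{w} c) := ⟨fun i j => by
    rcases hc.total ((equivShrink c).symm i).2 ((equivShrink c).symm j).2 with hij | hij
    · exact ⟨j, hij, le_rfl⟩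
    · exact ⟨i, le_rfl, hij⟩⟩
  have hN : IsLUB (Set.range g) (sSup (Set.range g)) := isLUB_sSup _
  refine ⟨_, hS _ g hg (fun j => hcS ((equivShrink c).symm j).2) _ hN.1 hN.2, fun z hz => ?_⟩
  refine hN.1 ⟨equivShrink c ⟨z, hz⟩, ?_⟩
  change ((equivShrink c).symm (equivShrink c ⟨z, hz⟩)).1 = z
  rw [Equiv.symm_apply_apply]

theorem exists_max_quotient {F : C} (Q : ∀ (G : C), (F ⟶ G) → Prop)
    (hdesc : ∀ {G G' : C} (π : F ⟶ G) (ψ : G ⟶ G'), Q G' (π ≫ ψ) → Q G π) (h1 : Q F (𝟙 F))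
    (hS : ∀ (J : Type w) [Preorder J] [IsDirectedOrder J] [Nonempty J] (g : J → Subobject F) (_ : Monotone g),
      (∀ j, Q _ (proj (g j))) → ∀ N : Subobject F, N ∈ upperBounds (Set.range g) →
        N ∈ lowerBounds (upperBounds (Set.range g)) → Q _ (proj N)) :
    ∃ (F' : C) (π : F ⟶ F'), Epi π ∧ Q F' π ∧ ∀ (G : C) (ψ : F' ⟶ G), Epi ψ → ¬ Mono ψ → ¬ Q G (π ≫ ψ) := by
  have h0 : kernelSubobject (𝟙 F) ∈ {N : Subobject F | Q _ (proj N)} := by
    have hz : (kernelSubobject (𝟙 F)).arrow ≫ 𝟙 F = 0 := kernelSubobject_arrow_comp _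
    refine hdesc (proj _) (cokernel.desc _ (𝟙 F) hz) ?_
    rwa [cokernel.π_desc]
  obtain ⟨m, -, hm⟩ := zorn_le_nonempty₀ {N : Subobject F | Q _ (proj N)} (exists_ub _ hS) _ h0
  refine ⟨cokernel m.arrow, proj m, inferInstance, hm.1, ?_⟩
  intro G ψ hψ hψ' hcon
  apply hψ'
  have hle : m ≤ kernelSubobject (proj m ≫ ψ) := by
    apply le_kernelSubobject
    rw [← Category.assoc, cokernel.condition, zero_comp]
  have hbad : kernelSubobject (proj m ≫ ψ) ∈ {N : Subobject F | Q _ (proj N)} := by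
    refine hdesc (proj _) (cokernel.desc (kernelSubobject (proj m ≫ ψ)).arrow (proj m ≫ ψ)
      (kernelSubobject_arrow_comp _)) ?_
    rwa [cokernel.π_desc]
  have hle' : kernelSubobject (proj m ≫ ψ) ≤ m := hm.2 hbad hle
  have : Epi (proj m ≫ ψ) := epi_comp _ _
  have hz : kernel.ι (proj m ≫ ψ) ≫ proj m = 0 := by
    have h1 : (kernelSubobject (proj m ≫ ψ)).arrow ≫ proj m = 0 := by
      rw [← Subobject.ofLE_arrow hle', Category.assoc, cokernel.condition, comp_zero]
    rw [← kernelSubobject_arrow' (proj m ≫ ψ), Category.assoc, h1, comp_zero]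
  have hr : ψ ≫ Abelian.epiDesc (proj m ≫ ψ) (proj m) hz = 𝟙 _ := by
    rw [← cancel_epi (proj m), ← Category.assoc, Abelian.comp_epiDesc, Category.comp_id]
  exact mono_of_mono_fac hr

/-- `exists_max_quotient` in a Grothendieck abelian category. -/
theorem exists_max_quotient' {C : Type u} [Category.{v} C] [Abelian C] [IsGrothendieckAbelian.{w} C]
    {F : C} (Q : ∀ (G : C), (F ⟶ G) → Prop)
    (hdesc : ∀ {G G' : C} (π : F ⟶ G) (ψ : G ⟶ G'), Q G' (π ≫ ψ) → Q G π) (h1 : Q F (𝟙 F))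
    (hS : ∀ (J : Type w) [Preorder J] [IsDirectedOrder J] [Nonempty J] (g : J → Subobject F) (_ : Monotone g),
      (∀ j, Q _ (proj (g j))) → ∀ N : Subobject F, N ∈ upperBounds (Set.range g) →
        N ∈ lowerBounds (upperBounds (Set.range g)) → Q _ (proj N)) :
    ∃ (F' : C) (π : F ⟶ F'), Epi π ∧ Q F' π ∧ ∀ (G : C) (ψ : F' ⟶ G), Epi ψ → ¬ Mono ψ → ¬ Q G (π ≫ ψ) :=
  exists_max_quotient Q hdesc h1 hS

end Groth.Agent.Etbc.H550.ZornQuot
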