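import Groth.Agent.Etbc.H182.Skel
import Groth.Agent.Etbase.EtColimBig
import Groth.Agent.Etbc.H550.ZornQuot

/-!
# Maximal quotients in which a class does not come from the base

`maxQuotient : Skel.MaxQuotient` (piece (Z) of S3521): Zorn's lemma on subobjects, `F/(⋃ N_j) = colim F/N_j`
and commutation of étale cohomology of qcqs schemes with filtered colimits.
-/

set_option autoImplicit false
universe u

open CategoryTheory CategoryTheory.Limits AlgebraicGeometry Opposite CategoryTheory.Abelian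

namespace Groth.Agent.Etbc.H550.MaxQuotient

open Groth.Agent.Etrest.HPost Groth.Agent.Etbc.H550.QuotColim Groth.Agent.Etbase.EtColimBig

attribute [local instance 3000] Groth.Agent.Etbase.EtColim.hasSheafify_et
  Groth.Agent.Etbase.EtColim.wEqualsLocallyBijective_et
  Groth.Agent.Etbase.EtColim.hasSheafCompose_et Groth.Agent.Etbase.EtColim.isGrothendieckAbelian_et
  Groth.Agent.Etbase.EtColim.hasExt_et Groth.Agent.Etbase.EtColim.hasPullbacks_et

variable {X Y : Scheme.{u}}

theorem HF_map {F G : EtCoh.Ab X} (φ : F ⟶ G) (n : ℕ) (x : EtCoh.H X F n) :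
    (EtCoh.HF X n).map φ x = post φ n x := rfl

/-- A class on a filtered colimit comes from a finite stage. -/
theorem exists_rep [CompactSpace X] [QuasiSeparatedSpace X] {J : Type (u + 1)} [SmallCategory J] [IsFiltered J]
    {K : J ⥤ EtCoh.Ab X} {c : Cocone K} (hc : IsColimit c) (n : ℕ) (x : EtCoh.H X c.pt n) :
    ∃ (j : J) (y : EtCoh.H X (K.obj j) n), post (c.ι.app j) n y = x := by
  have := preservesColimits_HF_big X J n
  exact Concrete.isColimit_exists_rep (K ⋙ EtCoh.HF X n) (isColimitOfPreserves (EtCoh.HF X n) hc) x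

/-- Two classes at a finite stage with the same image in the colimit agree at a later stage; here for
`pull h` of a colimit. -/
theorem exists_eq (h : Y ⟶ X) [CompactSpace Y] [QuasiSeparatedSpace Y] {J : Type (u + 1)} [SmallCategory J]
    [IsFiltered J] {K : J ⥤ EtCoh.Ab X} {c : Cocone K} (hc : IsColimit c) (n : ℕ) {j : J}
    (x y : EtCoh.H Y ((EtCoh.pull h).obj (K.obj j)) n)
    (hxy : post ((EtCoh.pull h).map (c.ι.app j)) n x = post ((EtCoh.pull h).map (c.ι.app j)) n y) :
    ∃ (k : J) (f g : j ⟶ k), post ((EtCoh.pull h).map (K.map f)) n x = post ((EtCoh.pull h).map (K.map g)) n y := by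
  have := preservesColimits_HF_big Y J n
  have : PreservesColimitsOfShape J (EtCoh.pull h) := (EtCoh.pullPushAdj h).leftAdjoint_preservesColimits.1
  obtain ⟨k, f, g, hk⟩ := Concrete.isColimit_exists_of_rep_eq ((K ⋙ EtCoh.pull h) ⋙ EtCoh.HF Y n)
    (isColimitOfPreserves (EtCoh.HF Y n) (isColimitOfPreserves (EtCoh.pull h) hc)) x y hxy
  exact ⟨k, f, g, hk⟩

/-- Images of classes under `proj`, transported to a larger subobject. -/
theorem post_proj (h : Y ⟶ X) {F : EtCoh.Ab X} (n : ℕ) (ξ : EtCoh.H Y ((EtCoh.pull h).obj F) n)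
    {N N' : Subobject F} (hN : N ≤ N') :
    post ((EtCoh.pull h).map (quotMap hN)) n (post ((EtCoh.pull h).map (proj N)) n ξ) =
      post ((EtCoh.pull h).map (proj N')) n ξ := by
  rw [post_comp, ← Functor.map_comp, proj_quotMap]

theorem not_mem_of_isLUB [CompactSpace X] [QuasiSeparatedSpace X] [CompactSpace Y] [QuasiSeparatedSpace Y]
    (h : Y ⟶ X) [PreservesFiniteLimits (EtCoh.pull h)] (F : EtCoh.Ab X) (n : ℕ)
    (ξ : EtCoh.H Y ((EtCoh.pull h).obj F) n) {J : Type (u + 1)} [Preorder J] [IsDirectedOrder J] [Nonempty J]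
    {g : J → Subobject F} (hg : Monotone g)
    (hgS : ∀ j, post ((EtCoh.pull h).map (proj (g j))) n ξ ∉
      Set.range (EtCore.Hpull h (cokernel (g j).arrow) n)) {N : Subobject F}
    (hN : N ∈ upperBounds (Set.range g)) (hN' : N ∈ lowerBounds (upperBounds (Set.range g))) :
    post ((EtCoh.pull h).map (proj N)) n ξ ∉ Set.range (EtCore.Hpull h (cokernel N.arrow) n) := by
  rintro ⟨ζ, hζ⟩
  have hc := isColimit hg hN hN'
  obtain ⟨j, ζj, hj⟩ := exists_rep hc n ζ
  change EtCoh.H X (cokernel (g j).arrow) n at ζj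
  change post (quotMap (hN ⟨j, rfl⟩)) n ζj = ζ at hj
  have e : post ((EtCoh.pull h).map (quotMap (hN ⟨j, rfl⟩))) n (EtCore.Hpull h (cokernel (g j).arrow) n ζj) =
      post ((EtCoh.pull h).map (quotMap (hN ⟨j, rfl⟩))) n (post ((EtCoh.pull h).map (proj (g j))) n ξ) := by
    rw [← Hpull_post, hj, hζ, post_proj]
  obtain ⟨k, f, f', hk⟩ := exists_eq h hc n (j := j) _ _ e
  change post ((EtCoh.pull h).map (quotMap (hg f.le))) n (EtCore.Hpull h (cokernel (g j).arrow) n ζj) =
    post ((EtCoh.pull h).map (quotMap (hg f'.le))) n (post ((EtCoh.pull h).map (proj (g j))) n ξ) at hk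
  rw [post_proj, ← Hpull_post] at hk
  exact hgS k ⟨_, hk⟩

theorem maxQuotient : H182.Skel.MaxQuotient.{u} := by
  intro X Y _ _ _ _ h _ F n ξ hξ
  obtain ⟨F', π, h1, h2, h3⟩ := ZornQuot.exists_max_quotient'.{u + 1}
    (fun (G : EtCoh.Ab X) (π : F ⟶ G) => post ((EtCoh.pull h).map π) n ξ ∉ Set.range (EtCore.Hpull h G n))
    (by
      intro G G' π ψ hn hmem
      apply hn
      have := H182.Chase.mem_range_post h ψ n hmem
      rwa [post_comp, ← Functor.map_comp] at this)
    (by rwa [CategoryTheory.Functor.map_id, post_id])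
    (fun J _ _ _ g hg hgS N hN hN' => not_mem_of_isLUB h F n ξ hg hgS hN hN')
  refine ⟨F', π, h1, h2, fun G ψ hψ hψ' => ?_⟩
  have := not_not.1 (h3 G ψ hψ hψ')
  rwa [Functor.map_comp, ← post_comp] at this

end Groth.Agent.Etbc.H550.MaxQuotient
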