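import Mathlib.CategoryTheory.Subobject.Lattice
import Mathlib.CategoryTheory.Subobject.Limits
import Mathlib.CategoryTheory.Filtered.Basic
import Mathlib.CategoryTheory.Abelian.Basic

/-!
# Quotients by a directed family of subobjects

`quotFunctor F : Subobject F ⥤ C`, `N ↦ F/N`, and `isColimit`: for a directed family `N_j` of subobjects of `F`
in an abelian category with least upper bound `N`, `F/N` is the colimit of the `F/N_j`.
-/

set_option autoImplicit false

open CategoryTheory CategoryTheory.Limits

namespace Groth.Agent.Etbc.H550.QuotColim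

universe w v u

variable {C : Type u} [Category.{v} C] [Abelian C]

/-- The projection `F ⟶ F/N`. -/
noncomputable abbrev proj {F : C} (N : Subobject F) : F ⟶ cokernel N.arrow := cokernel.π N.arrow

/-- `F/N ⟶ F/N'` for `N ≤ N'`. -/
noncomputable def quotMap {F : C} {N N' : Subobject F} (h : N ≤ N') :
    cokernel N.arrow ⟶ cokernel N'.arrow :=
  cokernel.desc N.arrow (proj N') (by
    rw [← Subobject.ofLE_arrow h, Category.assoc, cokernel.condition, comp_zero])

@[reassoc (attr := simp)]
theorem proj_quotMap {F : C} {N N' : Subobject F} (h : N ≤ N') : proj N ≫ quotMap h = proj N' :=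
  cokernel.π_desc _ _ _

/-- `N ↦ F/N`. -/
noncomputable def quotFunctor (F : C) : Subobject F ⥤ C where
  obj N := cokernel N.arrow
  map f := quotMap f.le
  map_id N := by
    rw [← cancel_epi (proj N), proj_quotMap]
    exact (Category.comp_id _).symm
  map_comp f g := by
    rw [← cancel_epi (proj _), proj_quotMap, proj_quotMap_assoc, proj_quotMap]

variable {J : Type w} [Preorder J]

/-- The cocone over `F/N_j` with point `F/N`, `N` an upper bound of the `N_j`. -/
noncomputable def cocone {F : C} {g : J → Subobject F} (hg : Monotone g) {N : Subobject F}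
    (hN : N ∈ upperBounds (Set.range g)) :
    Cocone (hg.functor ⋙ quotFunctor F) where
  pt := cokernel N.arrow
  ι :=
    { app := fun j => quotMap (hN ⟨j, rfl⟩)
      naturality := fun j j' f => by
        change quotMap (hg f.le) ≫ quotMap _ = quotMap _ ≫ 𝟙 _
        rw [← cancel_epi (proj _), proj_quotMap_assoc, proj_quotMap, Category.comp_id, proj_quotMap] }

theorem proj_app [IsDirectedOrder J] {F : C} {g : J → Subobject F} (hg : Monotone g)
    (s : Cocone (hg.functor ⋙ quotFunctor F)) (i j : J) :
    proj (g i) ≫ s.ι.app i = proj (g j) ≫ s.ι.app j := by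
  obtain ⟨k, hi, hj⟩ := exists_ge_ge i j
  have h1 : quotMap (hg hi) ≫ s.ι.app k = s.ι.app i := s.w (homOfLE hi)
  have h2 : quotMap (hg hj) ≫ s.ι.app k = s.ι.app j := s.w (homOfLE hj)
  rw [← h1, ← h2, proj_quotMap_assoc, proj_quotMap_assoc]

/-- For a directed family `N_j` with least upper bound `N`, `F/N = colim F/N_j`. -/
noncomputable def isColimit [IsDirectedOrder J] [Nonempty J] {F : C} {g : J → Subobject F} (hg : Monotone g)
    {N : Subobject F} (hN : N ∈ upperBounds (Set.range g)) (hN' : N ∈ lowerBounds (upperBounds (Set.range g))) :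
    IsColimit (cocone hg hN) := by
  have j₀ : J := Classical.arbitrary J
  refine
    { desc := fun s => cokernel.desc N.arrow (proj (g j₀) ≫ s.ι.app j₀) ?_
      fac := fun s j => ?_
      uniq := fun s m hm => ?_ }
  · have hle : N ≤ kernelSubobject (proj (g j₀) ≫ s.ι.app j₀) := by
      apply hN'
      rintro _ ⟨j, rfl⟩
      apply le_kernelSubobject
      rw [proj_app hg s j₀ j, ← Category.assoc, cokernel.condition, zero_comp]
    rw [← Subobject.ofLE_arrow hle, Category.assoc, kernelSubobject_arrow_comp, comp_zero]
  · refine (cancel_epi (proj (g j))).1 ?_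
    change proj (g j) ≫ quotMap (hN ⟨j, rfl⟩) ≫ cokernel.desc _ _ _ = _
    rw [proj_quotMap_assoc, cokernel.π_desc]
    exact proj_app hg s j₀ j
  · refine (cancel_epi (proj N)).1 ?_
    rw [cokernel.π_desc, ← hm j₀]
    change _ = proj (g j₀) ≫ quotMap (hN ⟨j₀, rfl⟩) ≫ m
    rw [proj_quotMap_assoc]

end Groth.Agent.Etbc.H550.QuotColim
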